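import Groth.Agent.L05.NodalDVR.Ring
import Groth.Agent.L05.SingLocus.Main
import Mathlib.RingTheory.RingHom.StandardSmooth

/-! The étale local structure of a nodal family over a discrete valuation ring. -/

set_option autoImplicit false
set_option linter.style.haveILetI false
set_option backward.isDefEq.respectTransparency.types false
set_option backward.isDefEq.respectTransparency false
set_option maxHeartbeats 1000000

universe u

open CategoryTheory CategoryTheory.Limits AlgebraicGeometry IsLocalRing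

noncomputable section

namespace Groth.L05.NodalDVR

open Groth.L21.Nodal

/-- `R[x, y]/(xy - 1)` maps etale to any etale `R[T]`-algebra in which `T` is invertible. -/
theorem exists_etale_torus {R E : Type u} [CommRing R] [CommRing E] (g : MvPolynomial (Fin 1) R →+* E)
    (hg : g.Etale) (t : IsUnit (g (MvPolynomial.X 0))) :
    ∃ g' : (MvPolynomial (Fin 2) R ⧸ Ideal.span {(MvPolynomial.X 0 * MvPolynomial.X 1 - 1 : MvPolynomial (Fin 2) R)}) →+* E,
      g'.Etale ∧ g'.comp ((Ideal.Quotient.mk _).comp MvPolynomial.C) = g.comp MvPolynomial.C := by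
  let P := MvPolynomial (Fin 1) R
  let T : P := MvPolynomial.X 0
  let L := Localization.Away T
  letI : Algebra P E := g.toAlgebra
  haveI : Algebra.Etale P E := RingHom.etale_algebraMap.1 hg
  let l : L →+* E := IsLocalization.Away.lift T (g := g) t
  letI : Algebra L E := l.toAlgebra
  haveI : IsScalarTower P L E := IsScalarTower.of_algebraMap_eq' (IsLocalization.Away.lift_comp T t).symm
  haveI : Algebra.FormallyUnramified P L := Algebra.FormallyUnramified.of_isLocalization (Submonoid.powers T)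
  haveI : Algebra.FormallyEtale L E := Algebra.FormallyEtale.of_restrictScalars (R := P)
  haveI : Algebra.FiniteType P L := by
    haveI : Algebra.FinitePresentation P L := IsLocalization.Away.finitePresentation T
    infer_instance
  haveI : Algebra.FinitePresentation L E := Algebra.FinitePresentation.of_restrict_scalars_finitePresentation P L E
  haveI : Algebra.Etale L E := {}
  let I : Ideal (MvPolynomial (Fin 2) R) := Ideal.span {MvPolynomial.X 0 * MvPolynomial.X 1 - 1}
  let A := MvPolynomial (Fin 2) R ⧸ I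
  let x : A := Ideal.Quotient.mk I (MvPolynomial.X 0)
  let y : A := Ideal.Quotient.mk I (MvPolynomial.X 1)
  have hxy : x * y = 1 := by
    rw [← map_mul, ← map_one (Ideal.Quotient.mk I)]
    exact Ideal.Quotient.eq.2 (Ideal.mem_span_singleton_self _)
  let a : P →ₐ[R] A := MvPolynomial.aeval fun _ => x
  let α : L →ₐ[R] A := IsLocalization.liftAlgHom (M := Submonoid.powers T) (f := a) (by
    rintro ⟨_, n, rfl⟩
    show IsUnit (a (T ^ n))
    rw [map_pow, MvPolynomial.aeval_X]
    exact (IsUnit.of_mul_eq_one y hxy).pow n)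
  let b : MvPolynomial (Fin 2) R →ₐ[R] L := MvPolynomial.aeval ![algebraMap P L T, IsLocalization.Away.invSelf T]
  let β : A →ₐ[R] L := Ideal.Quotient.liftₐ I b (fun z hz => by
    obtain ⟨v, rfl⟩ := Ideal.mem_span_singleton'.1 hz
    rw [map_mul]
    refine mul_eq_zero_of_right _ ?_
    simp [b, IsLocalization.Away.mul_invSelf])
  have hαT : α (algebraMap P L T) = x := by
    simp only [α, IsLocalization.liftAlgHom_apply, IsLocalization.lift_eq]
    exact MvPolynomial.aeval_X (R := R) (fun _ : Fin 1 => x) 0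
  have h1 : α.comp β = AlgHom.id R A := by
    refine Ideal.Quotient.algHom_ext _ (MvPolynomial.algHom_ext fun i => ?_)
    show α (b (MvPolynomial.X i)) = _
    rw [MvPolynomial.aeval_X]
    fin_cases i
    · exact hαT
    · show α (IsLocalization.Away.invSelf T) = y
      have h := congrArg α (IsLocalization.Away.mul_invSelf (S := L) T)
      rw [map_mul, hαT, map_one] at h
      calc α (IsLocalization.Away.invSelf T) = (x * y) * α (IsLocalization.Away.invSelf T) := by rw [hxy, one_mul]
        _ = y * (x * α (IsLocalization.Away.invSelf T)) := by ring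
        _ = y := by rw [h, mul_one]
  have h2 : β.comp α = AlgHom.id R L := by
    refine IsLocalization.algHom_ext (Submonoid.powers T) (MvPolynomial.algHom_ext fun i => ?_)
    fin_cases i
    show β (α (algebraMap P L T)) = algebraMap P L T
    rw [hαT]
    show b (MvPolynomial.X 0) = _
    simp [b]
  let e : A ≃ₐ[R] L := AlgEquiv.ofAlgHom β α h2 h1
  refine ⟨(algebraMap L E).comp e.toRingEquiv.toRingHom,
    RingHom.Etale.respectsIso.2 _ e.toRingEquiv (RingHom.etale_algebraMap.2 inferInstance), RingHom.ext fun r => ?_⟩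
  show algebraMap L E (e (algebraMap R A r)) = g (MvPolynomial.C r)
  rw [e.commutes, IsScalarTower.algebraMap_apply R P L, ← IsScalarTower.algebraMap_apply P L E]
  rfl

variable (R : Type u) [CommRing R] [IsDomain R] [IsDiscreteValuationRing R] (ϖ : R) (hϖ : Irreducible ϖ)
  {X : Scheme.{u}} (p : X ⟶ Spec (CommRingCat.of R)) (x : X) (hx : p.base x = IsLocalRing.closedPoint R)

include hx in
theorem exists_smooth_chart (O : X.Opens) (hxO : x ∈ O) [SmoothOfRelativeDimension 1 (O.ι ≫ p)] :
    ∃ (U : Scheme.{u}) (e : U ⟶ X) (_ : Etale e) (x' : U) (_ : e.base x' = x)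
      (g : U ⟶ Spec (CommRingCat.of (MvPolynomial (Fin 2) R ⧸
        Ideal.span {(MvPolynomial.X 0 * MvPolynomial.X 1 - 1 : MvPolynomial (Fin 2) R)}))) (_ : Etale g),
      g ≫ Spec.map (CommRingCat.ofHom ((Ideal.Quotient.mk _).comp MvPolynomial.C)) = e ≫ p := by
  obtain ⟨W, hW, V, hV, hxV, e, hstd⟩ :=
    SmoothOfRelativeDimension.exists_isStandardSmoothOfRelativeDimension (n := 1) (f := O.ι ≫ p) ⟨x, hxO⟩
  have hWtop : W = ⊤ := top_le_iff.1 fun z _ => by
    have h1 : p x ∈ W := e hxV
    rw [show p x = IsLocalRing.closedPoint R from hx] at h1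
    exact (IsLocalRing.specializes_closedPoint (z : PrimeSpectrum R)).mem_open W.2 h1
  subst hWtop
  let φ : CommRingCat.of R ⟶ Γ(O, V) := (Scheme.ΓSpecIso (CommRingCat.of R)).inv ≫ (O.ι ≫ p).appLE ⊤ V e
  have hφ : φ.hom.IsStandardSmoothOfRelativeDimension 1 :=
    (RingHom.isStandardSmoothOfRelativeDimension_respectsIso (n := 1)).2 _
      (Scheme.ΓSpecIso (CommRingCat.of R)).symm.commRingCatIsoToRingEquiv hstd
  obtain ⟨g₀, hg₀C, hg₀⟩ := hφ.exists_etale_mvPolynomial
  let q := hV.primeIdealOf ⟨⟨x, hxO⟩, hxV⟩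
  -- translate the coordinate to be invertible at the point
  obtain ⟨g, hgC, hg, hgq⟩ : ∃ g : MvPolynomial (Fin 1) R →+* Γ(O, V), g.comp MvPolynomial.C = φ.hom ∧ g.Etale ∧
      g (MvPolynomial.X 0) ∉ q.asIdeal := by
    by_cases h : g₀ (MvPolynomial.X 0) ∈ q.asIdeal
    · let σ : MvPolynomial (Fin 1) R ≃ₐ[R] MvPolynomial (Fin 1) R := AlgEquiv.ofAlgHom
        (MvPolynomial.aeval fun i => MvPolynomial.X i + 1) (MvPolynomial.aeval fun i => MvPolynomial.X i - 1)
        (MvPolynomial.algHom_ext fun i => by simp) (MvPolynomial.algHom_ext fun i => by simp)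
      refine ⟨g₀.comp σ.toRingEquiv.toRingHom, ?_, RingHom.Etale.respectsIso.2 _ _ hg₀, fun h' => ?_⟩
      · rw [RingHom.comp_assoc]
        refine (RingHom.ext fun r => ?_).trans hg₀C
        exact congrArg g₀ (σ.commutes r)
      · have h'' : g₀ (MvPolynomial.X 0) + 1 ∈ q.asIdeal := by simpa [σ] using h'
        exact q.2.ne_top ((Ideal.eq_top_iff_one _).2 (by simpa using q.asIdeal.sub_mem h'' h))
    · exact ⟨g₀, hg₀C, hg₀, h⟩
  let t := g (MvPolynomial.X 0)
  let E := CommRingCat.of (Localization.Away t)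
  let j : Spec E ⟶ Spec (CommRingCat.of Γ(O, V)) := Spec.map (CommRingCat.ofHom (algebraMap Γ(O, V) (Localization.Away t)))
  haveI : IsOpenImmersion j := IsOpenImmersion.of_isLocalization t
  obtain ⟨g', hg', hg'C⟩ := exists_etale_torus ((algebraMap Γ(O, V) (Localization.Away t)).comp g)
    (RingHom.Etale.stableUnderComposition _ _ hg (RingHom.etale_algebraMap.2 (Algebra.Etale.of_isLocalizationAway t)))
    (IsLocalization.Away.algebraMap_isUnit t)
  obtain ⟨x', hx'⟩ : q ∈ Set.range j := by
    erw [PrimeSpectrum.localization_away_comap_range (Localization.Away t) t]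
    exact hgq
  haveI : Etale (Spec.map (CommRingCat.ofHom g')) := (HasRingHomProperty.Spec_iff (P := @Etale)).2 hg'
  refine ⟨Spec E, j ≫ hV.fromSpec ≫ O.ι, inferInstance, x', ?_, Spec.map (CommRingCat.ofHom g'), inferInstance, ?_⟩
  · show (hV.fromSpec ≫ O.ι) (j x') = x
    rw [hx', Scheme.Hom.comp_apply, hV.fromSpec_primeIdealOf]
    rfl
  · have hc : hV.fromSpec ≫ O.ι ≫ p = Spec.map φ := by
      rw [Spec.map_comp, ← IsAffineOpen.SpecMap_appLE_fromSpec (O.ι ≫ p) (isAffineOpen_top _) hV e,
        IsAffineOpen.fromSpec_top, Scheme.isoSpec_Spec_inv]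
    rw [Category.assoc, Category.assoc, hc, ← Spec.map_comp, ← Spec.map_comp]
    congr 1
    ext1
    refine hg'C.trans ?_
    rw [RingHom.comp_assoc, hgC]
    rfl

include hϖ hx in
theorem exists_node_chart [Flat p] [LocallyOfFinitePresentation p]
    (hn : @Curv2.IsNode ((Spec (CommRingCat.of R)).residueField (p.base x)) _ (p.fiber (p.base x))
      ⟨p.fiberToSpecResidueField (p.base x)⟩ (p.asFiber x)) :
    ∃ (R' : Type u) (_ : CommRing R') (_ : IsDomain R') (_ : IsDiscreteValuationRing R')
      (_ : Algebra R R') (_ : Algebra.Etale R R') (_ : Irreducible (algebraMap R R' ϖ))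
      (h : MvPolynomial (Fin 2) R') (_ : h = 0 ∨ ∃ n : ℕ, h = MvPolynomial.C (algebraMap R R' ϖ ^ n))
      (U : Scheme.{u}) (e : U ⟶ X) (_ : Etale e) (x' : U) (_ : e.base x' = x)
      (g : U ⟶ Spec (CommRingCat.of (MvPolynomial (Fin 2) R' ⧸
        Ideal.span {MvPolynomial.X 0 * MvPolynomial.X 1 - h}))) (_ : Etale g),
      g ≫ Spec.map (CommRingCat.ofHom ((Ideal.Quotient.mk _).comp
          (MvPolynomial.C.comp (algebraMap R R')))) = e ≫ p := by
  obtain ⟨C, c, U, gU, gV, pU, eU, hgU, hgV, heU, hcomm, hep, u, hu⟩ := etale_local_structure p x hn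
  obtain ⟨φ, rfl⟩ := Spec.map_surjective gV
  letI : Algebra R C := φ.hom.toAlgebra
  haveI : Algebra.Etale R C := RingHom.etale_algebraMap.1 ((HasRingHomProperty.Spec_iff (P := @Etale)).1 hgV)
  let v : PrimeSpectrum C := pU u
  have hv : algebraMap R C ϖ ∈ v.asIdeal := by
    have h : PrimeSpectrum.comap φ.hom v = IsLocalRing.closedPoint R := by
      show Spec.map φ (pU u) = _
      rw [← Scheme.Hom.comp_apply, ← hcomm, Scheme.Hom.comp_apply, hu]
      exact hx
    have h2 : ϖ ∈ (PrimeSpectrum.comap φ.hom v).asIdeal := by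
      rw [h]
      exact hϖ.not_isUnit
    exact h2
  obtain ⟨g, hgv, hdom, hdvr, hirr⟩ := exists_dvr_localization ϖ hϖ v.asIdeal hv
  let R' := Localization.Away g
  let θ : C →+* R' := algebraMap C R'
  haveI : Algebra.Etale R R' := Algebra.Etale.comp R C R'
  obtain ⟨h₀, w, hw, hh₀⟩ : ∃ (h₀ : R') (w : R'ˣ), θ c = -(w * h₀) ∧
      (h₀ = 0 ∨ ∃ n : ℕ, h₀ = algebraMap R R' ϖ ^ n) := by
    by_cases h0 : θ c = 0
    · exact ⟨0, 1, by simp [h0], Or.inl rfl⟩
    · obtain ⟨n, w, hw⟩ := IsDiscreteValuationRing.eq_unit_mul_pow_irreducible h0 hirr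
      exact ⟨algebraMap R R' ϖ ^ n, -w, by rw [Units.val_neg, neg_mul, neg_neg]; exact hw, Or.inr ⟨n, rfl⟩⟩
  obtain ⟨ρ, hρ⟩ := exists_rescale θ c h₀ w hw
  let ι : Spec (CommRingCat.of R') ⟶ Spec C := Spec.map (CommRingCat.ofHom θ)
  haveI : IsOpenImmersion ι := IsOpenImmersion.of_isLocalization g
  have hsq := isPullback_SpecMap_of_isPushout _ _ _ _ hρ
  let gM : pullback pU ι ⟶ _ := hsq.lift (pullback.fst pU ι ≫ eU) (pullback.snd pU ι)
    (by rw [Category.assoc, hep]; exact pullback.condition)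
  have big : IsPullback (pullback.fst pU ι) (gM ≫ Spec.map (CommRingCat.ofHom ((Ideal.Quotient.mk
      (Ideal.span {MvPolynomial.X 0 * MvPolynomial.X 1 - MvPolynomial.C h₀})).comp MvPolynomial.C)))
      (eU ≫ Spec.map (CommRingCat.ofHom (algebraMap C (NodeModel C c)))) ι := by
    rw [hep, show gM ≫ _ = pullback.snd pU ι from hsq.lift_snd _ _ _]
    exact IsPullback.of_hasPullback _ _
  haveI hgM : Etale gM := MorphismProperty.of_isPullback (big.of_bot (hsq.lift_fst _ _ _).symm hsq) heU
  obtain ⟨y, hy⟩ : (v : Spec C) ∈ Set.range ι := by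
    erw [PrimeSpectrum.localization_away_comap_range R' g]
    exact hgv
  obtain ⟨x', hx', -⟩ := Scheme.exists_preimage_of_isPullback (IsPullback.of_hasPullback pU ι) u y hy.symm
  refine ⟨R', inferInstance, hdom, hdvr, inferInstance, inferInstance, hirr, MvPolynomial.C h₀, ?_,
    pullback pU ι, pullback.fst pU ι ≫ gU, inferInstance, x', ?_, gM, hgM, ?_⟩
  · rcases hh₀ with h | ⟨n, h⟩
    · exact Or.inl (by rw [h, map_zero])
    · exact Or.inr ⟨n, by rw [h]⟩
  · show (pullback.fst pU ι ≫ gU) x' = x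
    rw [Scheme.Hom.comp_apply, hx', hu]
  · rw [← RingHom.comp_assoc, CommRingCat.ofHom_comp, Spec.map_comp, reassoc_of% (hsq.lift_snd _ _ _),
      Category.assoc, hcomm, pullback.condition_assoc, ← Spec.map_comp]
    rfl

end Groth.L05.NodalDVR
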