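import Groth.Agent.L21.Nodal.EtaleStructure
import Groth.Agent.L01.Regular
import Mathlib.RingTheory.DiscreteValuationRing.TFAE
import Mathlib.RingTheory.Unramified.LocalRing
import Mathlib.RingTheory.Etale.Basic
import Mathlib.RingTheory.Ideal.GoingDown
import Mathlib.RingTheory.QuasiFinite.Basic

/-! Etale localisations over a discrete valuation ring, and node models over them. -/

set_option autoImplicit false
set_option linter.style.haveILetI false

universe u

open CategoryTheory CategoryTheory.Limits IsLocalRing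

noncomputable section

namespace Groth.L05.NodalDVR

open Groth.L21.Nodal

variable {R : Type u} [CommRing R] [IsDomain R] [IsDiscreteValuationRing R]
  {C : Type u} [CommRing C] [Algebra R C] [Algebra.Etale R C]

theorem finite_primeSpectrum (R : Type u) [CommRing R] [IsDomain R] [IsDiscreteValuationRing R] (C : Type u) [CommRing C]
    [Algebra R C] [Algebra.Etale R C] : Finite (PrimeSpectrum C) := by
  rw [← Set.finite_univ_iff]
  have h : (Set.univ : Set (PrimeSpectrum C)) ⊆
      ⋃ p ∈ ({⟨⊥, Ideal.isPrime_bot⟩, closedPoint R} : Set (PrimeSpectrum R)),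
        PrimeSpectrum.comap (algebraMap R C) ⁻¹' {p} := by
    intro P _
    simp only [Set.mem_iUnion, Set.mem_preimage, Set.mem_singleton_iff, exists_prop, Set.mem_insert_iff]
    refine ⟨_, ?_, rfl⟩
    by_cases h0 : (PrimeSpectrum.comap (algebraMap R C) P).asIdeal = ⊥
    · exact Or.inl (PrimeSpectrum.ext h0)
    · exact Or.inr (PrimeSpectrum.ext (IsLocalRing.eq_maximalIdeal
        ((PrimeSpectrum.comap (algebraMap R C) P).2.isMaximal h0)))
  refine Set.Finite.subset ?_ h
  exact Set.Finite.biUnion (Set.toFinite _) fun p _ => Algebra.QuasiFinite.finite_comap_preimage_singleton p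

theorem exists_dvr_localization (ϖ : R) (hϖ : Irreducible ϖ) (m : Ideal C) [m.IsPrime]
    (hm : algebraMap R C ϖ ∈ m) :
    ∃ g : C, g ∉ m ∧ ∃ (_ : IsDomain (Localization.Away g)), IsDiscreteValuationRing (Localization.Away g) ∧
      Irreducible (algebraMap R (Localization.Away g) ϖ) := by
  haveI : IsNoetherianRing C := Algebra.FiniteType.isNoetherianRing R C
  haveI := finite_primeSpectrum R C
  let x : PrimeSpectrum C := ⟨m, inferInstance⟩
  obtain ⟨g, hgm, hg⟩ : ∃ g : C, g ∉ m ∧ ∀ P : PrimeSpectrum C, g ∉ P.asIdeal → P.asIdeal ≤ m := by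
    have hclosed : IsClosed (⋃ P ∈ {P : PrimeSpectrum C | ¬ P.asIdeal ≤ m}, closure ({P} : Set (PrimeSpectrum C))) :=
      (Set.toFinite _).isClosed_biUnion fun P _ => isClosed_closure
    have hx : x ∈ (⋃ P ∈ {P : PrimeSpectrum C | ¬ P.asIdeal ≤ m}, closure ({P} : Set (PrimeSpectrum C)))ᶜ := by
      simp only [Set.mem_compl_iff, Set.mem_iUnion, not_exists]
      intro P hP hxP
      exact hP ((PrimeSpectrum.le_iff_mem_closure P x).2 hxP)
    obtain ⟨_, ⟨g, rfl⟩, hgx, hsub⟩ :=
      PrimeSpectrum.isTopologicalBasis_basic_opens.exists_subset_of_mem_open hx hclosed.isOpen_compl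
    refine ⟨g, hgx, fun P hP => by_contra fun hPm => hsub hP ?_⟩
    exact Set.mem_biUnion (x := P) hPm (subset_closure rfl)
  let R' := Localization.Away g
  haveI : Algebra.Etale R R' := Algebra.Etale.comp R C R'
  let M : Ideal R' := m.map (algebraMap C R')
  have hdisj : Disjoint (Submonoid.powers g : Set C) (m : Set C) := by
    rw [Set.disjoint_left]
    rintro _ ⟨n, rfl⟩ h
    exact hgm ((inferInstance : m.IsPrime).mem_of_pow_mem n h)
  have hcomap : M.comap (algebraMap C R') = m :=
    IsLocalization.under_map_of_isPrime_disjoint (Submonoid.powers g) R' ‹_› hdisj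
  haveI : M.IsPrime := IsLocalization.isPrime_of_isPrime_disjoint (Submonoid.powers g) R' m ‹_› hdisj
  have hle : ∀ P : Ideal R', P.IsPrime → P ≤ M := fun P hP => by
    have h1 : g ∉ P.comap (algebraMap C R') := fun h =>
      hP.ne_top (Ideal.eq_top_of_isUnit_mem _ h (IsLocalization.Away.algebraMap_isUnit g))
    have h2 := hg ⟨P.comap (algebraMap C R'), inferInstance⟩ h1
    rw [← IsLocalization.map_under (Submonoid.powers g) R' P]
    exact Ideal.map_mono h2
  haveI hM : M.IsMaximal := ⟨⟨Ideal.IsPrime.ne_top ‹_›, fun J hJ => by_contra fun hJ' => by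
    obtain ⟨P, hP, hJP⟩ := Ideal.exists_le_maximal J hJ'
    exact (hJ.trans_le (hJP.trans (hle P hP.isPrime))).ne rfl⟩⟩
  haveI : IsLocalRing R' := IsLocalRing.of_unique_max_ideal ⟨M, hM, fun P hP =>
    hP.eq_of_le hM.ne_top (hle P hP.isPrime)⟩
  have hMmax : maximalIdeal R' = M := (IsLocalRing.eq_maximalIdeal hM).symm
  have hϖ' : algebraMap R R' ϖ ∈ maximalIdeal R' := by
    rw [hMmax, IsScalarTower.algebraMap_apply R C R']
    exact Ideal.mem_map_of_mem _ hm
  haveI : IsLocalHom (algebraMap R R') := by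
    refine ⟨fun a ha => by_contra fun hna => ?_⟩
    have : a ∈ maximalIdeal R := hna
    rw [hϖ.maximalIdeal_eq, Ideal.mem_span_singleton] at this
    obtain ⟨b, rfl⟩ := this
    rw [map_mul] at ha
    exact hϖ' (isUnit_of_mul_isUnit_left ha)
  haveI : IsNoetherianRing R' := Algebra.FiniteType.isNoetherianRing R R'
  have hspan : maximalIdeal R' = Ideal.span {algebraMap R R' ϖ} := by
    rw [← Algebra.FormallyUnramified.map_maximalIdeal (R := R) (S := R'), hϖ.maximalIdeal_eq, Ideal.map_span,
      Set.image_singleton]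
  -- a prime over the generic point
  haveI : Module.Flat R R' := inferInstance
  haveI : (maximalIdeal R').LiesOver (maximalIdeal R) :=
    ⟨((((IsLocalRing.local_hom_TFAE (algebraMap R R')).out 0 4 rfl rfl).1 (inferInstance : IsLocalHom (algebraMap R R'))) :
      (maximalIdeal R').comap (algebraMap R R') = maximalIdeal R).symm⟩
  obtain ⟨P, hPle, hPp, hP⟩ := Ideal.exists_ideal_le_liesOver_of_le (S := R') (p := (⊥ : Ideal R))
    (q := maximalIdeal R) (maximalIdeal R') bot_le
  have hdim : 1 ≤ ringKrullDim R' := by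
    have hne : P ≠ maximalIdeal R' := fun h => by
      have h1 : algebraMap R R' ϖ ∈ P := h ▸ hϖ'
      have h2 : ϖ ∈ P.under R := h1
      rw [← hP.over, Ideal.mem_bot] at h2
      exact hϖ.ne_zero h2
    let P' : PrimeSpectrum R' := ⟨P, hPp⟩
    have hlt : P' < IsLocalRing.closedPoint R' :=
      lt_of_le_of_ne hPle fun h => hne (congrArg PrimeSpectrum.asIdeal h)
    have h := Order.LTSeries.length_le_krullDim (α := PrimeSpectrum R')
      ((RelSeries.singleton _ P').snoc (IsLocalRing.closedPoint R') (by rw [RelSeries.last_singleton]; exact hlt))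
    simpa [ringKrullDim] using h
  haveI hreg : IsRegularLocalRing R' := IsRegularLocalRing.of_spanFinrank_maximalIdeal_le R' (le_trans (by
    rw [hspan]
    exact_mod_cast (Submodule.spanFinrank_span_le_ncard_of_finite (Set.finite_singleton _)).trans
      (Set.ncard_singleton _).le) hdim)
  haveI hdom : IsDomain R' := Groth.L01.isDomain_of_regular R'
  have hnf : ¬ IsField R' := fun h => by
    rw [ringKrullDim_eq_zero_of_isField h] at hdim
    exact absurd hdim (by norm_num)
  have hd : IsDiscreteValuationRing R' :=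
    ((IsDiscreteValuationRing.TFAE R' hnf).out 0 4 rfl rfl).mpr ⟨⟨_, hspan⟩⟩
  exact ⟨g, hgm, hdom, hd, (IsDiscreteValuationRing.irreducible_iff_uniformizer _).2 hspan⟩

/-- The node model base changed and rescaled. -/
theorem exists_rescale {C R' : Type u} [CommRing C] [CommRing R'] (φ : C →+* R') (c : C) (h₀ : R') (w : R'ˣ)
    (hw : φ c = -(w * h₀)) :
    ∃ ρ : CommRingCat.of (NodeModel C c) ⟶ CommRingCat.of (MvPolynomial (Fin 2) R' ⧸
        Ideal.span {MvPolynomial.X 0 * MvPolynomial.X 1 - MvPolynomial.C h₀}),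
      IsPushout (CommRingCat.ofHom (algebraMap C (NodeModel C c))) (CommRingCat.ofHom φ) ρ
        (CommRingCat.ofHom ((Ideal.Quotient.mk
          (Ideal.span {MvPolynomial.X 0 * MvPolynomial.X 1 - MvPolynomial.C h₀})).comp MvPolynomial.C)) := by
  let ψ₀ : MvPolynomial (Fin 2) C →+* NodeModel R' (φ c) := (Ideal.Quotient.mk _).comp (MvPolynomial.map φ)
  let ψ : NodeModel C c →+* NodeModel R' (φ c) := Ideal.Quotient.lift _ ψ₀ fun z hz => by
    obtain ⟨v, rfl⟩ := Ideal.mem_span_singleton'.1 hz
    rw [map_mul]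
    refine mul_eq_zero_of_right _ (Ideal.Quotient.eq_zero_iff_mem.2 ?_)
    simp [Ideal.mem_span_singleton_self]
  have hpo : IsPushout (CommRingCat.ofHom (algebraMap C (NodeModel C c))) (CommRingCat.ofHom φ)
      (CommRingCat.ofHom ψ) (CommRingCat.ofHom (algebraMap R' (NodeModel R' (φ c)))) := by
    have h1 : (CommRingCat.ofHom (baseHom C c)) ≫ CommRingCat.ofHom φ = CommRingCat.ofHom (baseHom R' (φ c)) := by
      refine CommRingCat.hom_ext (MvPolynomial.ringHom_ext (fun r => map_C_eq _ _ r) fun i => ?_)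
      simp
    have h2 : CommRingCat.ofHom (R := UnivNode.{u}) (S := NodeModel C c) (univHom C c) ≫ CommRingCat.ofHom ψ =
        CommRingCat.ofHom (R := UnivNode.{u}) (S := NodeModel R' (φ c)) (univHom R' (φ c)) := by
      refine CommRingCat.hom_ext (Ideal.Quotient.ringHom_ext (MvPolynomial.ringHom_ext (fun r => map_C_eq _ _ r) fun i => ?_))
      show ψ (univHom C c (Ideal.Quotient.mk _ (MvPolynomial.X i))) = univHom R' (φ c) (Ideal.Quotient.mk _ (MvPolynomial.X i))
      rw [univHom_mk, univHom_mk, Ideal.Quotient.lift_mk]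
      fin_cases i <;> simp [ψ₀]
    refine IsPushout.of_top (h₁₁ := CommRingCat.ofHom (R := MvPolynomial (Fin 1) (ULift.{u} ℤ)) (S := UnivNode.{u}) univBase.{u})
      (v₁₁ := CommRingCat.ofHom (baseHom C c)) (v₁₂ := CommRingCat.ofHom (R := UnivNode.{u}) (S := NodeModel C c) (univHom C c))
      ?_ ?_ (isPushout_nodeModel C c)
    · rw [h1, h2]
      exact isPushout_nodeModel R' (φ c)
    · refine CommRingCat.hom_ext (RingHom.ext fun z => ?_)
      show ψ (Ideal.Quotient.mk _ (MvPolynomial.C z)) = Ideal.Quotient.mk _ (MvPolynomial.C (φ z))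
      rw [Ideal.Quotient.lift_mk]
      simp [ψ₀]
  -- scale the first coordinate
  let J : Ideal (MvPolynomial (Fin 2) R') := Ideal.span {MvPolynomial.X 0 * MvPolynomial.X 1 - MvPolynomial.C h₀}
  have hwC : (MvPolynomial.C (w : R') : MvPolynomial (Fin 2) R') * MvPolynomial.C (↑w⁻¹ : R') = 1 := by
    rw [← map_mul, Units.mul_inv, map_one]
  have hwC' : (MvPolynomial.C (↑w⁻¹ : R') : MvPolynomial (Fin 2) R') * MvPolynomial.C (w : R') = 1 := by
    rw [← map_mul, Units.inv_mul, map_one]
  let σ : MvPolynomial (Fin 2) R' ≃ₐ[R'] MvPolynomial (Fin 2) R' := AlgEquiv.ofAlgHom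
    (MvPolynomial.aeval ![MvPolynomial.C (w : R') * MvPolynomial.X 0, MvPolynomial.X 1])
    (MvPolynomial.aeval ![MvPolynomial.C (↑w⁻¹ : R') * MvPolynomial.X 0, MvPolynomial.X 1])
    (by
      refine MvPolynomial.algHom_ext fun i => ?_
      fin_cases i <;> simp [← mul_assoc, hwC, hwC'])
    (by
      refine MvPolynomial.algHom_ext fun i => ?_
      fin_cases i <;> simp [← mul_assoc, hwC, hwC'])
  have hσ : J = (Ideal.span {MvPolynomial.X 0 * MvPolynomial.X 1 + MvPolynomial.C (φ c)} :
      Ideal (MvPolynomial (Fin 2) R')).map (σ : MvPolynomial (Fin 2) R' →+* MvPolynomial (Fin 2) R') := by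
    rw [Ideal.map_span, Set.image_singleton]
    have hu : IsUnit (MvPolynomial.C (w : R') : MvPolynomial (Fin 2) R') := w.isUnit.map MvPolynomial.C
    rw [show J = Ideal.span {MvPolynomial.C (w : R') * (MvPolynomial.X 0 * MvPolynomial.X 1 - MvPolynomial.C h₀)} from
      (Ideal.span_singleton_mul_left_unit hu _).symm]
    congr 2
    simp [σ, hw]
    ring
  let e : NodeModel R' (φ c) ≃ₐ[R'] (MvPolynomial (Fin 2) R' ⧸ J) := Ideal.quotientEquivAlg _ _ σ hσ
  refine ⟨CommRingCat.ofHom ((e : NodeModel R' (φ c) →+* _).comp ψ),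
    hpo.of_iso (Iso.refl _) (Iso.refl _) (Iso.refl _) e.toRingEquiv.toCommRingCatIso ?_ ?_ ?_ ?_⟩
  · simp
  · simp
  · rfl
  · refine CommRingCat.hom_ext (RingHom.ext fun z => ?_)
    exact e.commutes z

end Groth.L05.NodalDVR
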